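import Mathlib

/-! Data matching the coset table of index 416 with the actions of the Hall–Janko group. -/

set_option autoImplicit false

namespace Cfsg.Agent.G2Four.CMaxData

/-- Five involutions as words in the four generators. -/
def jWords : List (List ℕ) := [[2, 1, 0, 3, 1, 2, 3, 2, 1, 3, 1, 0, 2, 0], [1, 2, 3, 2, 3, 0, 2, 3, 1, 3, 2, 0, 3, 2, 3, 2, 1], [2, 1, 0, 3, 2, 3, 1, 0, 2], [2, 3, 2, 3, 1, 0, 2, 0, 3, 1, 0, 2, 0, 3, 1, 3, 2, 1], [1, 2, 0, 3, 1, 0, 2, 0, 3, 2, 1, 3, 2, 1, 3, 0]]

/-- The four generators as words in the five involutions. -/
def backWords : List (List ℕ) := [[3, 2, 3, 0], [3, 4, 3, 0, 1, 2, 3, 0, 1, 2, 3, 0, 1, 2, 3, 4, 3, 0, 1, 0], [4, 3, 0, 1, 2, 3, 4, 3, 1, 2, 3, 2, 1, 0, 1, 2, 3, 4, 2, 3, 1, 2, 3, 4, 3, 1, 0], [2, 3, 1, 2, 3, 4, 1, 2, 3, 2, 0, 1, 0, 1, 2, 3, 4, 2, 3, 0, 1, 2, 3, 1, 2]]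

/-- Cosets matching the 100 sets. -/
def hundPts : ℕ := 4196715222367326361810602752116400166921247449355354553415554969539435432289620589410380794922509580108878798996533766918588699456852931810834604588967075717737474654128279999789968065520541905684078043418612641296941853272026038794762850654772342676914495363127439592999

/-- Cosets matching the 315 lines. -/
def linePts : ℕ := 2066424790072125515076053786723381427791210655018843637475794005970555416224784707665223954152556909402090113913549880817094499805426357744328576901644828896605196846340161786570124456902847701616145000773874539878774192436038108823564370787906415159411975160501651142625745955081859321510017566300432693950459809522263454345867175275671677613644490375507525125115062761933013552577057793658249435882146378015663705968971858459757146202336762788693683556307166133478524027470587021522480342262161986105035463057292434979348722074159102601939421266757270807345821301835378712365709974217808684263873097839501615821655345511885466377583206655940195494683252165853884408223959479819312296933053185886840519830229542094320813516755120516309257049208292937457926125143445915035366780095040265845571559372674845542704082333268647460012272023802725630500228655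

end Cfsg.Agent.G2Four.CMaxData
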