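import Cfsg.Agent.Lib.Presented.Data.SuzG2Data
import Cfsg.Agent.Lib.Presented.Data.SuzT416
import Cfsg.Agent.Lib.HallJanko.HundredDefs
import Cfsg.Agent.Lib.G2Four.CMaxData

/-! Kernel checks for the Hall–Janko subgroup of `G₂(4)`. -/

set_option autoImplicit false
set_option maxRecDepth 20000

namespace Cfsg.Agent.G2Four.CMax

open Cfsg.Agent.Presented

/-- A word in the five involutions, expanded to the four generators. -/
def jExp (w : List ℕ) : List ℕ := w.flatMap fun g => CMaxData.jWords.getD g []

/-- The relators in the first five generators. -/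
def relsJ : List (List ℕ) := SuzG2Data.rels.filter fun w => w.all fun g => Nat.blt g 5

/-- The coset number of a set. -/
noncomputable def hundAt (i : ℕ) : ℕ := (CMaxData.hundPts >>> (9 * i)) &&& 511

/-- The coset number of a line. -/
noncomputable def lineAt (i : ℕ) : ℕ := (CMaxData.linePts >>> (9 * i)) &&& 511

theorem rels_check : ∀ w ∈ relsJ, ∀ i : Fin 100, HJ.hwN (jExp w.reverse) i = i := by decide +kernel

theorem back_check : ∀ k : Fin 4, ∀ i : Fin 100,
    HJ.hwN (jExp (CMaxData.backWords.getD k [])) i = HJ.htN k i ∧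
      ∀ g ∈ CMaxData.backWords.getD k [], g < 5 := by decide +kernel

theorem hund_lt : ∀ i : Fin 100, hundAt i < 416 := by decide +kernel
theorem line_lt : ∀ i : Fin 315, lineAt i < 416 := by decide +kernel

theorem hund_equi : ∀ g : Fin 5, ∀ i : Fin 100,
    hundAt (HJ.hwN (CMaxData.jWords.getD g []) i) = SuzT416.cert.actOf (hundAt i) g := by decide +kernel

theorem line_equi : ∀ g : Fin 5, ∀ a : Fin 21, ∀ b : Fin 15,
    lineAt (HJ.awN (CMaxData.jWords.getD g []) (15 * (a : ℕ) + b)) =
      SuzT416.cert.actOf (lineAt (15 * (a : ℕ) + b)) g := by decide +kernel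

theorem cover_check : ∀ i : Fin 416, (i : ℕ) = 0 ∨ (i : ℕ) ∈ (List.range 100).map hundAt ∨
    (i : ℕ) ∈ (List.range 315).map lineAt := by decide +kernel

theorem distinct_check : ((List.range 100).map hundAt).Nodup ∧ ((List.range 315).map lineAt).Nodup ∧
    0 ∉ (List.range 100).map hundAt ∧ 0 ∉ (List.range 315).map lineAt := by decide +kernel

theorem sep_check : ∀ i : Fin 100, ∀ j : Fin 315, hundAt i ≠ lineAt j := by decide +kernel

end Cfsg.Agent.G2Four.CMax
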