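import Cfsg.Agent.Lib.Presented.SuzG2
import Cfsg.Agent.Lib.HallJanko.Subgroup6048
import Cfsg.Agent.Lib.G2Four.CMaxChecks

/-!
# The Hall–Janko subgroup of index 416 of `G₂(4)`

The first five of the six generators of `chevG2.group K4` used for the Suzuki group generate a copy of the
Hall–Janko group.  The coset table of index 416 describes the action of `G₂(4)` on the cosets; the subgroup has
two orbits besides the base coset, which carry its actions on 100 sets and on 315 lines.
-/

set_option autoImplicit false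
set_option maxRecDepth 20000

namespace Cfsg.Agent.G2Four.CMax

open Cfsg.Agent.Presented

/-! ## The five involutions in the Hall–Janko group -/

/-- The five involutions of `P`. -/
def pJ (g : ℕ) : HJ.P := HJ.wPP (HJ.toWord (CMaxData.jWords.getD g []))

theorem wP_append (u v : List (Fin 4)) : HJ.wP (u ++ v) = HJ.wP u * HJ.wP v := by
  induction u with
  | nil => simp [HJ.wP]
  | cons k u ih => rw [List.cons_append, HJ.wP, HJ.wP, ih, mul_assoc]

theorem prod_pJ : ∀ w : List ℕ, (w.map pJ).prod = HJ.wPP (HJ.toWord (jExp w))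
  | [] => Subtype.ext rfl
  | g :: w => by
    rw [List.map_cons, List.prod_cons, prod_pJ w]
    refine Subtype.ext ?_
    show HJ.wP _ * HJ.wP _ = HJ.wP _
    rw [← wP_append]
    simp [jExp, HJ.toWord]

theorem jWords_lt : ∀ l ∈ CMaxData.jWords, ∀ k ∈ l, k < 4 := by decide +kernel

theorem jExp_lt (w : List ℕ) : ∀ k ∈ jExp w, k < 4 := by
  intro k hk
  obtain ⟨g, -, hk⟩ := List.mem_flatMap.1 hk
  rcases lt_or_ge g CMaxData.jWords.length with h | h
  · rw [List.getD_eq_getElem _ _ h] at hk
    exact jWords_lt _ (List.getElem_mem _) _ hk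
  · rw [List.getD_eq_default _ _ h] at hk; simp at hk

theorem wval_pJ (w : List ℕ) : wval pJ w = HJ.wPP (HJ.toWord (jExp w.reverse)) := by
  rw [wval_eq_prod, ← List.map_reverse, prod_pJ]

theorem psi_prod (w : List ℕ) (i : Fin 100) :
    (HJ.psi (HJ.wPP (HJ.toWord (jExp w))) i : ℕ) = HJ.hwN (jExp w) i :=
  HJ.psi_word _ (jExp_lt w) i

theorem pJ_rels {w : List ℕ} (hw : w ∈ relsJ) : wval pJ w = 1 := by
  refine HJ.psi_injective ?_
  rw [map_one, wval_pJ]
  exact Equiv.ext fun i => Fin.ext ((psi_prod _ i).trans (rels_check w hw i))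

/-! ## The order of a group on five generators with these relators -/

/-- Every word is empty or a rotation of a relator in five generators or of a reversed one. -/
def rotOK5 (ws : List (List ℕ)) : Bool :=
  ws.all fun w => w.isEmpty || (List.range w.length).any fun k =>
    relsJ.contains (w.rotate k) || relsJ.contains (w.rotate k).reverse

variable {P : Type*} [Group P] {s : ℕ → P}

theorem wval_rot5 (hs : ∀ g, s g * s g = 1) (hrel : ∀ w ∈ relsJ, wval s w = 1)
    {ws : List (List ℕ)} (h : rotOK5 ws = true) : ∀ w ∈ ws, wval s w = 1 := by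
  intro w hw
  simp only [rotOK5, List.all_eq_true, Bool.or_eq_true, List.any_eq_true, List.contains_eq_mem,
    decide_eq_true_eq] at h
  have inv : ∀ u : List ℕ, wval s u.reverse = (wval s u)⁻¹ := by
    intro u
    rw [wval_eq_prod, wval_eq_prod, List.map_reverse, List.reverse_reverse, List.prod_inv_reverse,
      List.map_reverse, List.reverse_reverse, List.map_map]
    exact congrArg List.prod (List.map_congr_left fun g _ => eq_inv_of_mul_eq_one_left (hs g))
  rcases h w hw with h | ⟨k, -, h'⟩
  · rw [List.isEmpty_iff] at h; rw [h]; rfl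
  · have h1 : wval s (w.rotate k) = 1 := by
      rcases h' with h' | h'
      · exact hrel _ h'
      · exact inv_eq_one.1 ((inv _).symm.trans (hrel _ h'))
    rw [List.rotate_eq_drop_append_take_mod, wval_append, mul_eq_one_comm, ← wval_append,
      List.take_append_drop] at h1
    exact h1

theorem step5 (hs : ∀ g, s g * s g = 1) (hrel : ∀ w ∈ relsJ, wval s w = 1)
    {D : CosetCert} {E : DerivCert} (he : D.edgesOK = true) (hn : D.nodesOK = true)
    (hf : E.factsOK = true) (hl : E.loopsOK = true)
    (hD : rotOK5 (D.words.take D.nR) = true) (hE : rotOK5 (E.words.take E.nR) = true) {k n : ℕ}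
    (hk : (D.words.drop D.nR).take k = (List.range k).map fun g => [g])
    (hEk : E.words.drop E.nR = (List.range k).map fun g => [g])
    (hrest : (D.words.drop D.nR).drop k = E.loops.map Prod.fst)
    (hprev : OrderLE (Subgroup.closure (s '' {g | g < k})) n) :
    OrderLE (Subgroup.closure (s '' {g | g < D.m})) (D.N * n) := by
  have hgen : ∀ w ∈ (List.range k).map (fun g => [g]),
      wval s w ∈ Subgroup.closure (s '' {g | g < k}) := by
    intro w hw
    obtain ⟨g, hg, rfl⟩ := List.mem_map.1 hw
    exact Subgroup.subset_closure ⟨g, List.mem_range.1 hg, by simp [wval]⟩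
  refine closure_card_le he hn (fun g _ => hs g) (wval_rot5 hs hrel hD) _ ?_ hprev
  intro w hw
  rw [← List.take_append_drop k (D.words.drop D.nR), List.mem_append, hk, hrest] at hw
  rcases hw with hw | hw
  · exact hgen w hw
  · exact DerivCert.loops_mem E _ hf hl (fun g _ => hs g) (wval_rot5 hs hrel hE) (by rw [hEk]; exact hgen) w hw

theorem bound_five (hs : ∀ g, s g * s g = 1) (hrel : ∀ w ∈ relsJ, wval s w = 1) :
    OrderLE (Subgroup.closure (s '' {g | g < 5})) 604800 := by
  have h0 : OrderLE (Subgroup.closure (s '' {g | g < 0})) 1 := by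
    simpa using (orderLE_bot (G := P))
  have h4 := step5 hs hrel SuzT2160.cert_edgesOK SuzT2160.cert_nodesOK SuzT2160.deriv_factsOK
    SuzT2160.deriv_loopsOK (by decide +kernel) (by decide +kernel) (k := 0) (by decide +kernel)
    (by decide +kernel) (by decide +kernel) h0
  exact step5 hs hrel SuzT280.cert_edgesOK SuzT280.cert_nodesOK SuzT280.deriv_factsOK
    SuzT280.deriv_loopsOK (by decide +kernel) (by decide +kernel) (k := 4) (by decide +kernel)
    (by decide +kernel) (by decide +kernel) h4

/-! ## The isomorphism with the Hall–Janko group -/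

/-- The six generators of `Q`, extended by `1`. -/
noncomputable def qGen (g : ℕ) : Q := if g < 6 then SuzG2.qImg g else 1

theorem qGen_rels {w : List ℕ} (hw : w ∈ SuzG2Data.rels) : wval qGen w = 1 :=
  (SuzG2.wval_congr fun i hi => if_pos (SuzG2.rels_lt w hw i hi)).trans (SuzG2.qImg_rels hw)

theorem qGen_sq (g : ℕ) : qGen g * qGen g = 1 := by
  by_cases hg : g < 6
  · have key : ∀ i < 6, [i, i] ∈ SuzG2Data.rels := by decide +kernel
    simpa [wval] using qGen_rels (key g hg)
  · simp [qGen, hg]

/-- The pairs. -/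
noncomputable def jPair (g : ℕ) : HJ.P × Q := if g < 5 then (pJ g, qGen g) else 1

theorem relsJ_spec {w : List ℕ} (hw : w ∈ relsJ) : w ∈ SuzG2Data.rels ∧ ∀ g ∈ w, g < 5 := by
  simp only [relsJ, List.mem_filter, List.all_eq_true, Nat.blt_eq] at hw
  exact hw

theorem jPair_rels (w : List ℕ) (hw : w ∈ relsJ) : wval jPair w = 1 := by
  obtain ⟨hr, h5⟩ := relsJ_spec hw
  refine Prod.ext ?_ ?_
  · refine ((wval_map (MonoidHom.fst HJ.P Q) w).trans (SuzG2.wval_congr (g := pJ) ?_)).trans (pJ_rels hw)
    intro i hi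
    simp [jPair, h5 i hi]
  · refine ((wval_map (MonoidHom.snd HJ.P Q) w).trans (SuzG2.wval_congr (g := qGen) ?_)).trans (qGen_rels hr)
    intro i hi
    simp [jPair, h5 i hi]

theorem jPair_sq (g : ℕ) : jPair g * jPair g = 1 := by
  by_cases hg : g < 5
  · have key : ∀ i < 5, [i, i] ∈ relsJ := by decide +kernel
    simpa [wval] using jPair_rels _ (key g hg)
  · simp [jPair, hg]

/-- The subgroup generated by five of the generators. -/
noncomputable def J : Subgroup Q := Subgroup.closure (qGen '' {g | g < 5})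

theorem closure_pJ : Subgroup.closure (pJ '' {g | g < 5}) = ⊤ := by
  have hk : ∀ k : Fin 4, HJ.gP k ∈ Subgroup.closure (pJ '' {g | g < 5}) := fun k => by
    have e : HJ.gP k = ((CMaxData.backWords.getD k []).map pJ).prod := by
      refine HJ.psi_injective (Equiv.ext fun i => Fin.ext ?_)
      rw [HJ.psi_gP, prod_pJ, psi_prod, (back_check k i).1]
      rfl
    rw [e]
    refine Subgroup.list_prod_mem _ fun y hy => ?_
    obtain ⟨g, hg, rfl⟩ := List.mem_map.1 hy
    exact Subgroup.subset_closure ⟨g, (back_check k 0).2 g hg, rfl⟩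
  rw [eq_top_iff]
  rintro ⟨p, hp⟩ -
  induction hp using Subgroup.closure_induction with
  | mem x hx => obtain ⟨k, rfl⟩ := hx; exact hk k
  | one => exact one_mem _
  | mul a b _ _ ha hb => exact mul_mem ha hb
  | inv a _ ha => exact inv_mem ha

theorem qImg_zero_ne : SuzG2.qImg 0 ≠ 1 := by
  intro h
  have h1 := SuzG2.fst7_qImg 0 (by decide +kernel)
  rw [h, map_one] at h1
  exact absurd h1 (by decide +kernel)

theorem exists_theta : ∃ θ : HJ.P ≃* J, ∀ g, g < 5 → (θ (pJ g) : Q) = qGen g := by
  set S := Subgroup.closure (jPair '' {g | g < 5}) with hS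
  obtain ⟨hfin, hle⟩ := bound_five jPair_sq jPair_rels
  have h1 : S.map (MonoidHom.fst HJ.P Q) = ⊤ := by
    rw [← closure_pJ, hS, MonoidHom.map_closure, Set.image_image]
    exact congrArg _ (Set.image_congr fun g hg => by simp [jPair, show g < 5 from hg])
  have h2 : S.map (MonoidHom.snd HJ.P Q) = J := by
    rw [J, hS, MonoidHom.map_closure, Set.image_image]
    exact congrArg _ (Set.image_congr fun g hg => by simp [jPair, show g < 5 from hg])
  let f : S →* HJ.P := (MonoidHom.fst HJ.P Q).comp S.subtype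
  let f2 : S →* J := ((MonoidHom.snd HJ.P Q).comp S.subtype).codRestrict J fun x => h2 ▸ ⟨x.1, x.2, rfl⟩
  have fs : Function.Surjective f := fun p => by
    have : p ∈ S.map (MonoidHom.fst HJ.P Q) := by rw [h1]; trivial
    obtain ⟨x, hx, e⟩ := this
    exact ⟨⟨x, hx⟩, e⟩
  have fb : Function.Bijective f := (Nat.bijective_iff_surjective_and_card _).2 ⟨fs,
    le_antisymm (hle.trans (le_of_eq HJ.card_P.symm)) (Nat.card_le_card_of_surjective _ fs)⟩
  let e := MulEquiv.ofBijective f fb
  let ψ : HJ.P →* J := f2.comp e.symm.toMonoidHom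
  have hψ : ∀ g, g < 5 → (ψ (pJ g) : Q) = qGen g := fun g hg => by
    have hm : jPair g ∈ S := Subgroup.subset_closure ⟨g, hg, rfl⟩
    have he : e ⟨jPair g, hm⟩ = pJ g := by simp [e, f, jPair, hg]
    show (f2 (e.symm (pJ g)) : Q) = _
    rw [← he, MulEquiv.symm_apply_apply]
    simp [f2, jPair, hg]
  have hsurj : Function.Surjective ψ := by
    intro q
    have : (q : Q) ∈ S.map (MonoidHom.snd HJ.P Q) := h2.symm ▸ q.2
    obtain ⟨x, hx, hq⟩ := this
    exact ⟨e ⟨x, hx⟩, Subtype.ext (by simpa [ψ, f2] using hq)⟩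
  have hinj : Function.Injective ψ := by
    rw [← MonoidHom.ker_eq_bot_iff]
    haveI := HJ.isSimple_P
    refine (IsSimpleGroup.eq_bot_or_eq_top_of_normal _ inferInstance).resolve_right fun h => ?_
    have := hψ 0 (by norm_num)
    rw [MonoidHom.mem_ker.1 (h ▸ Subgroup.mem_top (pJ 0))] at this
    exact qImg_zero_ne (this.trans (if_pos (by norm_num))).symm
  exact ⟨MulEquiv.ofBijective ψ ⟨hinj, hsurj⟩, hψ⟩

/-- The isomorphism of `P` with `J`. -/
noncomputable def theta : HJ.P ≃* J := exists_theta.choose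

theorem theta_pJ {g : ℕ} (hg : g < 5) : (theta (pJ g) : Q) = qGen g := exists_theta.choose_spec g hg

theorem card_J : Nat.card J = 604800 := (Nat.card_congr theta.toEquiv).symm.trans HJ.card_P

theorem isoJ2_J : Cfsg.Spor.IsoJ2 J := ⟨theta.symm.trans HJ.isoP.symm⟩

/-! ## The cosets -/

instance finiteQ : Finite Q := Nat.finite_of_card_ne_zero (by rw [SuzG2.card_Q]; norm_num)

theorem index_J : J.index = 416 := by
  have := J.index_mul_card
  rw [card_J, SuzG2.card_Q] at this
  exact Nat.eq_of_mul_eq_mul_right (show 0 < 604800 by norm_num) (this.trans (show (251596800 : ℕ) = 416 * 604800 by norm_num))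

theorem closure_qGen : Subgroup.closure (qGen '' {g | g < 6}) = ⊤ := by
  rw [← SuzG2.closure_qImg]
  exact congrArg _ (Set.image_congr fun g hg => if_pos hg)

theorem exists_cosetEquiv : ∃ e : Fin 416 ≃ Q ⧸ J, e 0 = QuotientGroup.mk 1 ∧
    ∀ g, g < 6 → ∀ i : Fin 416, ∃ j : Fin 416, (j : ℕ) = SuzT416.cert.actOf i g ∧ qGen g • e i = e j := by
  have hR : ∀ w ∈ SuzT416.cert.words.take SuzT416.cert.nR, wval qGen w = 1 :=
    SuzG2.wval_rot6 qGen_sq (fun w hw => qGen_rels hw) (by decide +kernel)
  have hgen : ∀ w ∈ (List.range 5).map (fun g => [g]), wval qGen w ∈ J := by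
    intro w hw
    obtain ⟨g, hg, rfl⟩ := List.mem_map.1 hw
    exact Subgroup.subset_closure ⟨g, List.mem_range.1 hg, by simp [wval]⟩
  have hK : ∀ w ∈ SuzT416.cert.words.drop SuzT416.cert.nR, wval qGen w ∈ J := by
    have hk : (SuzT416.cert.words.drop SuzT416.cert.nR).take 5 = (List.range 5).map fun g => [g] := by
      decide +kernel
    have hEk : SuzT416.deriv.words.drop SuzT416.deriv.nR = (List.range 5).map fun g => [g] := by
      decide +kernel
    have hrest : (SuzT416.cert.words.drop SuzT416.cert.nR).drop 5 = SuzT416.deriv.loops.map Prod.fst := by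
      decide +kernel
    intro w hw
    rw [← List.take_append_drop 5 (SuzT416.cert.words.drop SuzT416.cert.nR), List.mem_append, hk, hrest] at hw
    rcases hw with hw | hw
    · exact hgen w hw
    · exact DerivCert.loops_mem SuzT416.deriv _ SuzT416.deriv_factsOK SuzT416.deriv_loopsOK
        (fun g _ => qGen_sq g) (SuzG2.wval_rot6 qGen_sq (fun w hw => qGen_rels hw) (by decide +kernel))
        (by rw [hEk]; exact hgen) w hw
  obtain ⟨c, hc0, hc⟩ := CosetCert.exists_cosets (s := qGen) SuzT416.cert_nodesOK J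
  have good : ∀ i g, i < 416 → g < 6 → qGen g • c i = c (SuzT416.cert.actOf i g) := fun i g hi hg =>
    CosetCert.edge_good SuzT416.cert_edgesOK SuzT416.cert_nodesOK J (fun g _ => qGen_sq g) hR hK hc0 hc
      _ i g hi hg SuzT416.cert.rankOf_lt
  let e : Fin 416 → Q ⧸ J := fun i => c i
  have hstep : ∀ a : Q, ∀ i : Fin 416, a • e i ∈ Set.range e := by
    intro a
    have ha : a ∈ Subgroup.closure (qGen '' {g | g < 6}) := by rw [closure_qGen]; trivial
    induction ha using Subgroup.closure_induction'' with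
    | mem y hy =>
      obtain ⟨g, hg, rfl⟩ := hy
      exact fun i => ⟨⟨_, CosetCert.actOf_lt SuzT416.cert_edgesOK SuzT416.cert_nodesOK i.2 hg⟩,
        (good i g i.2 hg).symm⟩
    | inv_mem y hy =>
      obtain ⟨g, hg, rfl⟩ := hy
      rw [inv_eq_of_mul_eq_one_right (qGen_sq g)]
      exact fun i => ⟨⟨_, CosetCert.actOf_lt SuzT416.cert_edgesOK SuzT416.cert_nodesOK i.2 hg⟩,
        (good i g i.2 hg).symm⟩
    | one => exact fun i => ⟨i, (one_smul _ _).symm⟩
    | mul a b _ _ iha ihb =>
      intro i
      obtain ⟨j, hj⟩ := ihb i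
      rw [mul_smul, ← hj]
      exact iha j
  have hsurj : Function.Surjective e := by
    intro x
    induction x using QuotientGroup.induction_on with
    | H a =>
      obtain ⟨j, hj⟩ := hstep a ⟨0, by norm_num⟩
      refine ⟨j, hj.trans ?_⟩
      show a • c 0 = _
      rw [hc0, MulAction.Quotient.smul_mk, smul_eq_mul, mul_one]
  have hb : Function.Bijective e := (Nat.bijective_iff_surjective_and_card _).2
    ⟨hsurj, by rw [Nat.card_fin]; exact index_J.symm⟩
  refine ⟨Equiv.ofBijective e hb, ?_, fun g hg i =>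
    ⟨⟨_, CosetCert.actOf_lt SuzT416.cert_edgesOK SuzT416.cert_nodesOK i.2 hg⟩, rfl, good i g i.2 hg⟩⟩
  show c ((0 : Fin 416) : ℕ) = _
  exact hc0

/-- The numbering of the cosets. -/
noncomputable def cos : Fin 416 ≃ Q ⧸ J := exists_cosetEquiv.choose

theorem cos_zero : cos 0 = QuotientGroup.mk 1 := exists_cosetEquiv.choose_spec.1

theorem cos_act {g : ℕ} (hg : g < 6) (i : Fin 416) :
    ∃ j : Fin 416, (j : ℕ) = SuzT416.cert.actOf i g ∧ qGen g • cos i = cos j :=
  exists_cosetEquiv.choose_spec.2 g hg i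

/-! ## The two nontrivial orbits -/

/-- The coset of a set. -/
noncomputable def hundC (i : Fin 100) : Q ⧸ J := cos ⟨hundAt i, hund_lt i⟩

/-- The coset of a line. -/
noncomputable def lineC (i : Fin 315) : Q ⧸ J := cos ⟨lineAt i, line_lt i⟩

theorem closure_induction_pJ {p : HJ.P → Prop} (hone : p 1) (hmul : ∀ a b, p a → p b → p (a * b))
    (hgen : ∀ g, g < 5 → p (pJ g)) (x : HJ.P) : p x := by
  have hx : x ∈ Submonoid.closure (pJ '' {g | g < 5}) := by
    rw [← Subgroup.closure_toSubmonoid_of_finite, closure_pJ]; trivial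
  induction hx using Submonoid.closure_induction with
  | mem y hy => obtain ⟨g, hg, rfl⟩ := hy; exact hgen g hg
  | one => exact hone
  | mul a b _ _ ha hb => exact hmul a b ha hb

theorem hundC_equi (p : HJ.P) : ∀ i, (theta p : Q) • hundC i = hundC (HJ.psi p i) := by
  refine closure_induction_pJ (p := fun p => ∀ i, (theta p : Q) • hundC i = hundC (HJ.psi p i)) ?_ ?_ ?_ p
  · intro i; simp
  · intro a b ha hb i
    rw [map_mul, Subgroup.coe_mul, mul_smul, hb, ha, map_mul]
    rfl
  · intro g hg i
    rw [theta_pJ hg, hundC]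
    obtain ⟨j, hj, e⟩ := cos_act (show g < 6 by omega) ⟨hundAt i, hund_lt i⟩
    rw [e, hundC]
    refine congrArg cos (Fin.ext ?_)
    show (j : ℕ) = hundAt _
    rw [hj, pJ, HJ.psi_word _ (fun k hk => ?_) i]
    · exact (hund_equi ⟨g, hg⟩ i).symm
    · rw [List.getD_eq_getElem _ _ (show g < CMaxData.jWords.length from lt_of_lt_of_le hg (by decide +kernel))] at hk
      exact jWords_lt _ (List.getElem_mem _) _ hk

theorem lineC_equi (p : HJ.P) : ∀ i, (theta p : Q) • lineC i = lineC (p.1 i) := by
  refine closure_induction_pJ (p := fun p => ∀ i, (theta p : Q) • lineC i = lineC (p.1 i)) ?_ ?_ ?_ p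
  · intro i; simp
  · intro a b ha hb i
    rw [map_mul, Subgroup.coe_mul, mul_smul, hb, ha]
    rfl
  · intro g hg i
    rw [theta_pJ hg, lineC]
    obtain ⟨j, hj, e⟩ := cos_act (show g < 6 by omega) ⟨lineAt i, line_lt i⟩
    rw [e, lineC]
    refine congrArg cos (Fin.ext ?_)
    show (j : ℕ) = lineAt _
    rw [hj]
    show _ = lineAt ((HJ.wP (HJ.toWord (CMaxData.jWords.getD g [])) i : Fin 315) : ℕ)
    rw [HJ.wP_toWord _ (fun k hk => ?_) i]
    · have hi := i.2
      have := line_equi ⟨g, hg⟩ ⟨(i : ℕ) / 15, by omega⟩ ⟨(i : ℕ) % 15, by omega⟩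
      simp only [Nat.div_add_mod] at this
      exact this.symm
    · rw [List.getD_eq_getElem _ _ (show g < CMaxData.jWords.length from lt_of_lt_of_le hg (by decide +kernel))] at hk
      exact jWords_lt _ (List.getElem_mem _) _ hk

theorem coset_cases (x : Q ⧸ J) :
    x = QuotientGroup.mk 1 ∨ (∃ i, hundC i = x) ∨ ∃ i, lineC i = x := by
  obtain ⟨n, rfl⟩ := cos.surjective x
  rcases cover_check n with h | h | h
  · left; rw [← cos_zero]; exact congrArg cos (Fin.ext h)
  · obtain ⟨i, hi, e⟩ := List.mem_map.1 h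
    exact Or.inr (Or.inl ⟨⟨i, List.mem_range.1 hi⟩, congrArg cos (Fin.ext e)⟩)
  · obtain ⟨i, hi, e⟩ := List.mem_map.1 h
    exact Or.inr (Or.inr ⟨⟨i, List.mem_range.1 hi⟩, congrArg cos (Fin.ext e)⟩)

theorem hundC_injective : Function.Injective hundC := fun i j h => by
  have := congrArg Fin.val (cos.injective h)
  exact Fin.ext (List.inj_on_of_nodup_map distinct_check.1 (List.mem_range.2 i.2) (List.mem_range.2 j.2) this)

theorem lineC_injective : Function.Injective lineC := fun i j h => by
  have := congrArg Fin.val (cos.injective h)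
  exact Fin.ext (List.inj_on_of_nodup_map distinct_check.2.1 (List.mem_range.2 i.2) (List.mem_range.2 j.2) this)

theorem hundC_ne (i : Fin 100) : hundC i ≠ QuotientGroup.mk 1 := fun h => by
  rw [← cos_zero] at h
  exact distinct_check.2.2.1 (List.mem_map.2 ⟨i, List.mem_range.2 i.2, congrArg Fin.val (cos.injective h)⟩)

theorem lineC_ne (i : Fin 315) : lineC i ≠ QuotientGroup.mk 1 := fun h => by
  rw [← cos_zero] at h
  exact distinct_check.2.2.2 (List.mem_map.2 ⟨i, List.mem_range.2 i.2, congrArg Fin.val (cos.injective h)⟩)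

end Cfsg.Agent.G2Four.CMax
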