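import Cfsg.Agent.Lib.G2Four.CMax
import Cfsg.Agent.Lib.G2Four.Transport

/-!
# The action of `G₂(4)` on the cosets of the Hall–Janko subgroup is extremely primitive
-/

set_option autoImplicit false
set_option maxRecDepth 20000

namespace Cfsg.Agent.G2Four.CMax

open MulAction

theorem coatom_of_two_orbits {G α : Type*} [Group G] [MulAction G α] [Finite G] [Finite α]
    (htr : IsPretransitive G α) (a : α) (A B : Set α) (cover : ∀ x, x = a ∨ x ∈ A ∨ x ∈ B)
    (hdisj : Disjoint A B) (haA : a ∉ A) (haB : a ∉ B) (hAne : A.Nonempty)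
    (hA : ∀ x ∈ A, ∀ y ∈ A, ∃ h ∈ stabilizer G a, h • x = y)
    (hB : ∀ x ∈ B, ∀ y ∈ B, ∃ h ∈ stabilizer G a, h • x = y)
    (hAd : ¬(A.ncard + 1) ∣ Nat.card α) (hBd : ¬(B.ncard + 1) ∣ Nat.card α) :
    IsCoatom (stabilizer G a) := by
  have := htr
  refine ⟨fun h => ?_, fun K hK => ?_⟩
  · obtain ⟨x, hx⟩ := hAne
    obtain ⟨g, hg⟩ := exists_smul_eq G a x
    have : g ∈ stabilizer G a := by rw [h]; trivial
    rw [mem_stabilizer_iff.1 this] at hg
    exact haA (hg ▸ hx)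
  set O := orbit K a with hO
  have hmem : ∀ x, x ∈ O ↔ ∃ k ∈ K, k • a = x := fun x =>
    ⟨fun ⟨⟨k, hk⟩, e⟩ => ⟨k, hk, e⟩, fun ⟨k, hk, e⟩ => ⟨⟨k, hk⟩, e⟩⟩
  have hsat : ∀ S : Set α, (∀ x ∈ S, ∀ y ∈ S, ∃ h ∈ stabilizer G a, h • x = y) →
      ∀ x ∈ S, x ∈ O → S ⊆ O := by
    intro S hS x hxS hxO y hy
    obtain ⟨h, hh, e⟩ := hS x hxS y hy
    obtain ⟨k, hk, ek⟩ := (hmem x).1 hxO
    exact (hmem y).2 ⟨h * k, mul_mem (hK.le hh) hk, by rw [mul_smul, ek, e]⟩
  have hdvd : O.ncard ∣ Nat.card α := by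
    have h1 : (stabilizer K a) = (stabilizer G a).subgroupOf K := rfl
    have h2 : (stabilizer K a).index = O.ncard := index_stabilizer _ _
    have h3 := Subgroup.index_mul_card (stabilizer K a)
    rw [h2, h1, Nat.card_congr (Subgroup.subgroupOfEquivOfLe hK.le).toEquiv] at h3
    have h4 := Subgroup.index_mul_card (stabilizer G a)
    rw [index_stabilizer_of_transitive] at h4
    have h5 := Subgroup.card_subgroup_dvd_card K
    rw [← h3, ← h4] at h5
    exact Nat.dvd_of_mul_dvd_mul_right Nat.card_pos h5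
  have htop : (A ⊆ O ∧ B ⊆ O) → K = ⊤ := by
    rintro ⟨h1, h2⟩
    rw [eq_top_iff]
    intro g _
    have : g • a ∈ O := by
      rcases cover (g • a) with h | h | h
      · rw [h]; exact mem_orbit_self _
      · exact h1 h
      · exact h2 h
    obtain ⟨k, hk, e⟩ := (hmem _).1 this
    have h' : k⁻¹ * g ∈ K := hK.le (by rw [mem_stabilizer_iff, mul_smul, ← e, inv_smul_smul])
    simpa using mul_mem hk h'
  by_cases hOA : ∃ x ∈ A, x ∈ O
  · obtain ⟨x, hx, hxO⟩ := hOA
    by_cases hOB : ∃ y ∈ B, y ∈ O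
    · obtain ⟨y, hy, hyO⟩ := hOB
      exact htop ⟨hsat A hA x hx hxO, hsat B hB y hy hyO⟩
    · exfalso
      have : O = insert a A := by
        ext z
        refine ⟨fun hz => ?_, ?_⟩
        · rcases cover z with h | h | h
          · exact Or.inl h
          · exact Or.inr h
          · exact absurd ⟨z, h, hz⟩ hOB
        · rintro (rfl | h)
          · exact mem_orbit_self _
          · exact hsat A hA x hx hxO h
      rw [this, Set.ncard_insert_of_notMem haA] at hdvd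
      exact hAd hdvd
  · by_cases hOB : ∃ y ∈ B, y ∈ O
    · exfalso
      obtain ⟨y, hy, hyO⟩ := hOB
      have : O = insert a B := by
        ext z
        refine ⟨fun hz => ?_, ?_⟩
        · rcases cover z with h | h | h
          · exact Or.inl h
          · exact absurd ⟨z, h, hz⟩ hOA
          · exact Or.inr h
        · rintro (rfl | h)
          · exact mem_orbit_self _
          · exact hsat B hB y hy hyO h
      rw [this, Set.ncard_insert_of_notMem haB] at hdvd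
      exact hBd hdvd
    · exfalso
      refine hK.not_ge fun k hk => ?_
      have hkO : k • a ∈ O := (hmem _).2 ⟨k, hk, rfl⟩
      rcases cover (k • a) with h | h | h
      · exact h
      · exact absurd ⟨_, h, hkO⟩ hOA
      · exact absurd ⟨_, h, hkO⟩ hOB

theorem coatom_stabilizer_of {G α : Type*} [Group G] [MulAction G α] [IsPretransitive G α] {a : α}
    (h : IsCoatom (stabilizer G a)) (b : α) : IsCoatom (stabilizer G b) := by
  obtain ⟨g, rfl⟩ := exists_smul_eq G a b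
  rw [stabilizer_smul_eq_stabilizer_map_conj]
  exact ((MulAut.conj g).mapSubgroup.isCoatom_iff _).2 h

/-! ## Maximal subgroups of the Hall–Janko group -/

theorem hund_cover : ∀ i : Fin 100, i = 0 ∨ i ∈ HJ.orbSet HJ.hundOrbit0 ∨ i ∈ HJ.orbSet HJ.hundOrbit1 := by
  decide +kernel

theorem hund_sep : Disjoint (HJ.orbSet HJ.hundOrbit0) (HJ.orbSet HJ.hundOrbit1) ∧
    (0 : Fin 100) ∉ HJ.orbSet HJ.hundOrbit0 ∧ (0 : Fin 100) ∉ HJ.orbSet HJ.hundOrbit1 := by
  decide +kernel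

theorem stab_hund_coatom (j : Fin 100) :
    IsCoatom ((stabilizer (Equiv.Perm (Fin 100)) j).comap HJ.psi) := by
  letI : MulAction HJ.P (Fin 100) := MulAction.compHom _ HJ.psi
  have htr : IsPretransitive HJ.P (Fin 100) := ⟨fun x y => by
    obtain ⟨g, hg⟩ := HJ.psi_transitive x
    obtain ⟨k, hk⟩ := HJ.psi_transitive y
    refine ⟨k * g⁻¹, ?_⟩
    show HJ.psi (k * g⁻¹) x = y
    rw [← hg, ← Equiv.Perm.mul_apply, ← map_mul, inv_mul_cancel_right, hk]⟩
  have h0 : IsCoatom (stabilizer HJ.P (0 : Fin 100)) := by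
    obtain ⟨o1, o6⟩ := HJ.orbit_sets
    obtain ⟨c0, c1, -⟩ := HJ.orbSet_cards
    have tr : ∀ r : Fin 100, ∀ x ∈ {i | ∃ h ∈ HJ.H100, HJ.psi h r = i},
        ∀ y ∈ {i | ∃ h ∈ HJ.H100, HJ.psi h r = i}, ∃ h ∈ stabilizer HJ.P (0 : Fin 100), h • x = y := by
      rintro r x ⟨g, hg, rfl⟩ y ⟨k, hk, rfl⟩
      exact ⟨k * g⁻¹, (mul_mem hk (inv_mem hg) : k * g⁻¹ ∈ HJ.H100), by
        show HJ.psi (k * g⁻¹) (HJ.psi g r) = _
        rw [← Equiv.Perm.mul_apply, ← map_mul, inv_mul_cancel_right]⟩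
    refine coatom_of_two_orbits htr 0 (↑(HJ.orbSet HJ.hundOrbit0)) (↑(HJ.orbSet HJ.hundOrbit1))
      hund_cover (Finset.disjoint_coe.2 hund_sep.1) hund_sep.2.1 hund_sep.2.2 ?_ ?_ ?_ ?_ ?_
    · rw [Finset.coe_nonempty, ← Finset.card_pos, c0]; norm_num
    · rw [← o1]; exact tr 1
    · rw [← o6]; exact tr 6
    · rw [Set.ncard_coe_finset, c0, Nat.card_fin]; norm_num
    · rw [Set.ncard_coe_finset, c1, Nat.card_fin]; norm_num
  exact coatom_stabilizer_of h0 j

theorem stab_line_coatom (j : Fin 315) :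
    IsCoatom ((stabilizer (Equiv.Perm (Fin 315)) j).comap HJ.P.subtype) := by
  letI : MulAction HJ.P (Fin 315) := MulAction.compHom _ HJ.P.subtype
  have htr : IsPretransitive HJ.P (Fin 315) := ⟨fun x y => by
    obtain ⟨g, hg, e⟩ := HJ.transitive x y
    exact ⟨⟨g, hg⟩, e⟩⟩
  have h0 : IsCoatom (stabilizer HJ.P (0 : Fin 315)) := by
    refine ⟨fun h => ?_, fun K hK => ?_⟩
    · obtain ⟨g, hg⟩ := exists_smul_eq HJ.P (0 : Fin 315) 1
      have : g ∈ stabilizer HJ.P (0 : Fin 315) := by rw [h]; trivial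
      rw [mem_stabilizer_iff.1 this] at hg
      exact absurd hg (by decide)
    obtain ⟨k₀, hk₀, hne⟩ := SetLike.exists_of_lt hK
    let r : Fin 315 → Fin 315 → Prop := fun x y =>
      ∃ g : HJ.P, g • (0 : Fin 315) = x ∧ ∃ k ∈ K, g • (k • (0 : Fin 315)) = y
    have hr : ∀ x, r x x := fun x => by
      obtain ⟨g, hg⟩ := exists_smul_eq HJ.P (0 : Fin 315) x
      exact ⟨g, hg, 1, one_mem _, by rw [one_smul, hg]⟩
    have hfix : ∀ g h : HJ.P, g • (0 : Fin 315) = h • (0 : Fin 315) → g⁻¹ * h ∈ K := fun g h e =>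
      hK.le (by rw [mem_stabilizer_iff, mul_smul, ← e, inv_smul_smul])
    have htrans : ∀ x y z, r x y → r y z → r x z := by
      rintro x y z ⟨g, hg, k, hk, e⟩ ⟨g', hg', k', hk', e'⟩
      refine ⟨g, hg, k * ((g * k)⁻¹ * g') * k', mul_mem (mul_mem hk (hfix _ _ ?_)) hk', ?_⟩
      · rw [mul_smul, e, hg']
      · rw [← mul_smul, show g * (k * ((g * k)⁻¹ * g') * k') = g' * k' by group, mul_smul, e']
    have hinv : ∀ p ∈ HJ.P, ∀ x y, r x y → r (p x) (p y) := by
      rintro p hp x y ⟨g, hg, k, hk, e⟩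
      exact ⟨⟨p, hp⟩ * g, by rw [mul_smul, hg]; rfl, k, hk, by rw [mul_smul, e]; rfl⟩
    have hall := HJ.orbital_universal hr htrans hinv (y := k₀ • (0 : Fin 315)) hne
      ⟨1, one_smul _ _, k₀, hk₀, one_smul _ _⟩
    rw [eq_top_iff]
    intro p _
    obtain ⟨g, hg, k, hk, e⟩ := hall (p • (0 : Fin 315))
    have hgK : g ∈ K := hK.le hg
    have h' := hfix (g * k) p (by rw [mul_smul, e])
    have h'' := mul_mem (mul_mem hgK hk) h'
    rwa [mul_inv_cancel_left] at h''
  exact coatom_stabilizer_of h0 j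

/-! ## Maximality of the subgroup and of its intersections -/

theorem J_coatom : IsCoatom J := by
  have key : IsCoatom (stabilizer Q ((QuotientGroup.mk 1 : Q ⧸ J))) := by
    refine coatom_of_two_orbits inferInstance (QuotientGroup.mk 1) (Set.range hundC) (Set.range lineC)
      coset_cases ?_ (fun ⟨i, h⟩ => hundC_ne i h) (fun ⟨i, h⟩ => lineC_ne i h) ⟨_, 0, rfl⟩ ?_ ?_ ?_ ?_
    · rw [Set.disjoint_left]
      rintro _ ⟨i, rfl⟩ ⟨j, hj⟩
      have : (⟨hundAt i, hund_lt i⟩ : Fin 416) = ⟨lineAt j, line_lt j⟩ := cos.injective hj.symm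
      exact sep_check i j (congrArg Fin.val this)
    · rintro _ ⟨i, rfl⟩ _ ⟨j, rfl⟩
      obtain ⟨g, hg⟩ := HJ.psi_transitive i
      obtain ⟨k, hk⟩ := HJ.psi_transitive j
      refine ⟨(theta (k * g⁻¹) : Q), ?_, ?_⟩
      · rw [MulAction.stabilizer_quotient]; exact (theta _).2
      · rw [hundC_equi, ← hg, ← Equiv.Perm.mul_apply, ← map_mul, inv_mul_cancel_right, hk]
    · rintro _ ⟨i, rfl⟩ _ ⟨j, rfl⟩
      obtain ⟨g, hg, e⟩ := HJ.transitive i j
      refine ⟨(theta ⟨g, hg⟩ : Q), ?_, ?_⟩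
      · rw [MulAction.stabilizer_quotient]; exact (theta _).2
      · rw [lineC_equi]; exact congrArg lineC e
    · rw [Set.ncard_range_of_injective hundC_injective, Nat.card_fin, ← Nat.card_congr cos, Nat.card_fin]
      norm_num
    · rw [Set.ncard_range_of_injective lineC_injective, Nat.card_fin, ← Nat.card_congr cos, Nat.card_fin]
      norm_num
  rwa [MulAction.stabilizer_quotient] at key

theorem inter_coatom {y : Q} (hy : y ∉ J) :
    IsCoatom ((J ⊓ J.map (MulAut.conj y).toMonoidHom).subgroupOf J) := by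
  have hmem : ∀ t : J, t ∈ (J ⊓ J.map (MulAut.conj y).toMonoidHom).subgroupOf J ↔
      (t : Q) • (QuotientGroup.mk y : Q ⧸ J) = QuotientGroup.mk y := by
    intro t
    rw [Subgroup.mem_subgroupOf, Subgroup.mem_inf, and_iff_right t.2, Subgroup.mem_map_equiv,
      MulAut.conj_symm_apply, MulAction.Quotient.smul_mk, smul_eq_mul, QuotientGroup.eq,
      ← inv_mem_iff (x := y⁻¹ * t * y)]
    simp [mul_assoc]
  have hne : (QuotientGroup.mk y : Q ⧸ J) ≠ QuotientGroup.mk 1 := fun h => hy (by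
    simpa using (QuotientGroup.eq.1 h.symm))
  have key : ∀ S : Subgroup HJ.P, IsCoatom S →
      (∀ p, p ∈ S ↔ (theta p : Q) • (QuotientGroup.mk y : Q ⧸ J) = QuotientGroup.mk y) →
      IsCoatom ((J ⊓ J.map (MulAut.conj y).toMonoidHom).subgroupOf J) := by
    intro S hS hiff
    have : (J ⊓ J.map (MulAut.conj y).toMonoidHom).subgroupOf J = theta.mapSubgroup S := by
      ext t
      rw [hmem, MulEquiv.coe_mapSubgroup, Subgroup.mem_map_equiv, hiff, MulEquiv.apply_symm_apply]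
    rw [this]
    exact (theta.mapSubgroup.isCoatom_iff _).2 hS
  rcases coset_cases (QuotientGroup.mk y) with h | ⟨i, hi⟩ | ⟨i, hi⟩
  · exact absurd h hne
  · refine key _ (stab_hund_coatom i) fun p => ?_
    rw [← hi, hundC_equi, hundC_injective.eq_iff]
    rfl
  · refine key _ (stab_line_coatom i) fun p => ?_
    rw [← hi, lineC_equi, lineC_injective.eq_iff]
    rfl

theorem exists_subgroup {F : Type*} [Field F] [Fintype F] (hF : Fintype.card F = 4) :
    ∃ H : Subgroup (Cfsg.Lie.chevG2.group F), IsCoatom H ∧ Cfsg.Spor.IsoJ2 H ∧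
      ∀ x : Cfsg.Lie.chevG2.group F, x ∉ H →
        IsCoatom ((H ⊓ H.map (MulAut.conj x).toMonoidHom).subgroupOf H) := by
  let e : Q ≃* Cfsg.Lie.chevG2.group F :=
    qEquiv.trans (groupEquiv (FiniteField.ringEquivOfCardEq (card_K4.trans hF.symm)))
  let η : J ≃* (J.map e.toMonoidHom) := e.subgroupMap J
  refine ⟨J.map e.toMonoidHom, (e.mapSubgroup.isCoatom_iff _).2 J_coatom, ⟨η.symm.trans isoJ2_J.some⟩, ?_⟩
  intro x hx
  obtain ⟨y, rfl⟩ := e.surjective x
  have hy : y ∉ J := fun h => hx ⟨y, h, rfl⟩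
  have : ((J.map e.toMonoidHom) ⊓ (J.map e.toMonoidHom).map (MulAut.conj (e y)).toMonoidHom).subgroupOf
      (J.map e.toMonoidHom) = η.mapSubgroup ((J ⊓ J.map (MulAut.conj y).toMonoidHom).subgroupOf J) := by
    ext ⟨t, ht⟩
    obtain ⟨s, hs, rfl⟩ := ht
    rw [MulEquiv.coe_mapSubgroup, Subgroup.mem_map_equiv]
    have he : η.symm ⟨e s, s, hs, rfl⟩ = ⟨s, hs⟩ := by
      rw [MulEquiv.symm_apply_eq]; exact Subtype.ext rfl
    show _ ↔ η.symm ⟨e s, _⟩ ∈ _
    rw [he]
    simp only [Subgroup.mem_subgroupOf, Subgroup.mem_inf, Subgroup.mem_map_equiv, MulAut.conj_symm_apply]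
    simp [hs, ← map_inv, ← map_mul]
  rw [this]
  exact (η.mapSubgroup.isCoatom_iff _).2 (inter_coatom hy)

end Cfsg.Agent.G2Four.CMax
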