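import Cfsg.Agent.Lib.G2Four.Rep

/-! Kernel checks of the relation between the 7- and 14-dimensional root elements. -/

set_option autoImplicit false

namespace Cfsg.Agent.G2Four

open Cfsg.Lie

theorem check3 : ∀ t : K4, Rel (x7 3 t) (chevG2.xMat K4 ⟨3, by decide⟩ t) ∧
    x7 3 t * x7 3 (-t) = 1 ∧ x7 3 (-t) * x7 3 t = 1 ∧ ∀ i, x7 3 t i 3 = if i = 3 then 1 else 0 := by
  unfold Rel
  decide +kernel

theorem check4 : ∀ t : K4, Rel (x7 4 t) (chevG2.xMat K4 ⟨4, by decide⟩ t) ∧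
    x7 4 t * x7 4 (-t) = 1 ∧ x7 4 (-t) * x7 4 t = 1 ∧ ∀ i, x7 4 t i 3 = if i = 3 then 1 else 0 := by
  unfold Rel
  decide +kernel

theorem check5 : ∀ t : K4, Rel (x7 5 t) (chevG2.xMat K4 ⟨5, by decide⟩ t) ∧
    x7 5 t * x7 5 (-t) = 1 ∧ x7 5 (-t) * x7 5 t = 1 ∧ ∀ i, x7 5 t i 3 = if i = 3 then 1 else 0 := by
  unfold Rel
  decide +kernel

end Cfsg.Agent.G2Four
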