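import Cfsg.Agent.Lib.G2Four.Rep

/-! Kernel checks of the relation between the 7- and 14-dimensional root elements. -/

set_option autoImplicit false

namespace Cfsg.Agent.G2Four

open Cfsg.Lie

theorem check9 : ∀ t : K4, Rel (x7 9 t) (chevG2.xMat K4 ⟨9, by decide⟩ t) ∧
    x7 9 t * x7 9 (-t) = 1 ∧ x7 9 (-t) * x7 9 t = 1 ∧ ∀ i, x7 9 t i 3 = if i = 3 then 1 else 0 := by
  unfold Rel
  decide +kernel

theorem check10 : ∀ t : K4, Rel (x7 10 t) (chevG2.xMat K4 ⟨10, by decide⟩ t) ∧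
    x7 10 t * x7 10 (-t) = 1 ∧ x7 10 (-t) * x7 10 t = 1 ∧ ∀ i, x7 10 t i 3 = if i = 3 then 1 else 0 := by
  unfold Rel
  decide +kernel

theorem check11 : ∀ t : K4, Rel (x7 11 t) (chevG2.xMat K4 ⟨11, by decide⟩ t) ∧
    x7 11 t * x7 11 (-t) = 1 ∧ x7 11 (-t) * x7 11 t = 1 ∧ ∀ i, x7 11 t i 3 = if i = 3 then 1 else 0 := by
  unfold Rel
  decide +kernel

end Cfsg.Agent.G2Four
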