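import Cfsg.Agent.Lib.G2Four.CheckRel0
import Cfsg.Agent.Lib.G2Four.CheckRel1
import Cfsg.Agent.Lib.G2Four.CheckRel2
import Cfsg.Agent.Lib.G2Four.CheckRel3

/-! All checks of the relation between the 7- and 14-dimensional root elements. -/
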