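import Cfsg.Agent.Lib.G2Four.Rep

/-! Kernel checks of the relation between the 7- and 14-dimensional root elements. -/

set_option autoImplicit false

namespace Cfsg.Agent.G2Four

open Cfsg.Lie

theorem check0 : ∀ t : K4, Rel (x7 0 t) (chevG2.xMat K4 ⟨0, by decide⟩ t) ∧
    x7 0 t * x7 0 (-t) = 1 ∧ x7 0 (-t) * x7 0 t = 1 ∧ ∀ i, x7 0 t i 3 = if i = 3 then 1 else 0 := by
  unfold Rel
  decide +kernel

theorem check1 : ∀ t : K4, Rel (x7 1 t) (chevG2.xMat K4 ⟨1, by decide⟩ t) ∧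
    x7 1 t * x7 1 (-t) = 1 ∧ x7 1 (-t) * x7 1 t = 1 ∧ ∀ i, x7 1 t i 3 = if i = 3 then 1 else 0 := by
  unfold Rel
  decide +kernel

theorem check2 : ∀ t : K4, Rel (x7 2 t) (chevG2.xMat K4 ⟨2, by decide⟩ t) ∧
    x7 2 t * x7 2 (-t) = 1 ∧ x7 2 (-t) * x7 2 t = 1 ∧ ∀ i, x7 2 t i 3 = if i = 3 then 1 else 0 := by
  unfold Rel
  decide +kernel

end Cfsg.Agent.G2Four
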