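import Cfsg.Agent.Lib.G2Four.Rep

/-! A 7×7 matrix commuting with the Lie algebra is scalar. -/

set_option autoImplicit false

namespace Cfsg.Agent.G2Four

open Cfsg.Lie Matrix

theorem scalar_of_comm (M : Matrix (Fin 7) (Fin 7) K4) (h : ∀ j, M * bas j = bas j * M) :
    M = M 0 0 • (1 : Matrix (Fin 7) (Fin 7) K4) := by
  have two := two_eq_zero
  have E : ∀ j a b, (M * bas j) a b + (bas j * M) a b = 0 := fun j a b => by
    rw [h j]
    linear_combination ((bas j * M) a b) * two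
  have q0_0_2 := E (Sum.inl (⟨0, by decide⟩ : Fin chevG2.rank)) 0 2
  simp [bas, suppMat, bSupp, Matrix.mul_apply, Fin.sum_univ_seven] at q0_0_2
  have q0_0_3 := E (Sum.inl (⟨0, by decide⟩ : Fin chevG2.rank)) 0 3
  simp [bas, suppMat, bSupp, Matrix.mul_apply, Fin.sum_univ_seven] at q0_0_3
  have q0_0_4 := E (Sum.inl (⟨0, by decide⟩ : Fin chevG2.rank)) 0 4
  simp [bas, suppMat, bSupp, Matrix.mul_apply, Fin.sum_univ_seven] at q0_0_4
  have q0_1_2 := E (Sum.inl (⟨0, by decide⟩ : Fin chevG2.rank)) 1 2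
  simp [bas, suppMat, bSupp, Matrix.mul_apply, Fin.sum_univ_seven] at q0_1_2
  have q0_1_3 := E (Sum.inl (⟨0, by decide⟩ : Fin chevG2.rank)) 1 3
  simp [bas, suppMat, bSupp, Matrix.mul_apply, Fin.sum_univ_seven] at q0_1_3
  have q0_1_4 := E (Sum.inl (⟨0, by decide⟩ : Fin chevG2.rank)) 1 4
  simp [bas, suppMat, bSupp, Matrix.mul_apply, Fin.sum_univ_seven] at q0_1_4
  have q0_2_0 := E (Sum.inl (⟨0, by decide⟩ : Fin chevG2.rank)) 2 0
  simp [bas, suppMat, bSupp, Matrix.mul_apply, Fin.sum_univ_seven] at q0_2_0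
  have q0_2_1 := E (Sum.inl (⟨0, by decide⟩ : Fin chevG2.rank)) 2 1
  simp [bas, suppMat, bSupp, Matrix.mul_apply, Fin.sum_univ_seven] at q0_2_1
  have q0_2_5 := E (Sum.inl (⟨0, by decide⟩ : Fin chevG2.rank)) 2 5
  simp [bas, suppMat, bSupp, Matrix.mul_apply, Fin.sum_univ_seven] at q0_2_5
  have q0_2_6 := E (Sum.inl (⟨0, by decide⟩ : Fin chevG2.rank)) 2 6
  simp [bas, suppMat, bSupp, Matrix.mul_apply, Fin.sum_univ_seven] at q0_2_6
  have q0_3_0 := E (Sum.inl (⟨0, by decide⟩ : Fin chevG2.rank)) 3 0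
  simp [bas, suppMat, bSupp, Matrix.mul_apply, Fin.sum_univ_seven] at q0_3_0
  have q0_3_1 := E (Sum.inl (⟨0, by decide⟩ : Fin chevG2.rank)) 3 1
  simp [bas, suppMat, bSupp, Matrix.mul_apply, Fin.sum_univ_seven] at q0_3_1
  have q0_3_5 := E (Sum.inl (⟨0, by decide⟩ : Fin chevG2.rank)) 3 5
  simp [bas, suppMat, bSupp, Matrix.mul_apply, Fin.sum_univ_seven] at q0_3_5
  have q0_3_6 := E (Sum.inl (⟨0, by decide⟩ : Fin chevG2.rank)) 3 6
  simp [bas, suppMat, bSupp, Matrix.mul_apply, Fin.sum_univ_seven] at q0_3_6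
  have q0_4_0 := E (Sum.inl (⟨0, by decide⟩ : Fin chevG2.rank)) 4 0
  simp [bas, suppMat, bSupp, Matrix.mul_apply, Fin.sum_univ_seven] at q0_4_0
  have q0_4_1 := E (Sum.inl (⟨0, by decide⟩ : Fin chevG2.rank)) 4 1
  simp [bas, suppMat, bSupp, Matrix.mul_apply, Fin.sum_univ_seven] at q0_4_1
  have q0_4_5 := E (Sum.inl (⟨0, by decide⟩ : Fin chevG2.rank)) 4 5
  simp [bas, suppMat, bSupp, Matrix.mul_apply, Fin.sum_univ_seven] at q0_4_5
  have q0_4_6 := E (Sum.inl (⟨0, by decide⟩ : Fin chevG2.rank)) 4 6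
  simp [bas, suppMat, bSupp, Matrix.mul_apply, Fin.sum_univ_seven] at q0_4_6
  have q0_5_2 := E (Sum.inl (⟨0, by decide⟩ : Fin chevG2.rank)) 5 2
  simp [bas, suppMat, bSupp, Matrix.mul_apply, Fin.sum_univ_seven] at q0_5_2
  have q0_5_3 := E (Sum.inl (⟨0, by decide⟩ : Fin chevG2.rank)) 5 3
  simp [bas, suppMat, bSupp, Matrix.mul_apply, Fin.sum_univ_seven] at q0_5_3
  have q0_5_4 := E (Sum.inl (⟨0, by decide⟩ : Fin chevG2.rank)) 5 4
  simp [bas, suppMat, bSupp, Matrix.mul_apply, Fin.sum_univ_seven] at q0_5_4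
  have q0_6_2 := E (Sum.inl (⟨0, by decide⟩ : Fin chevG2.rank)) 6 2
  simp [bas, suppMat, bSupp, Matrix.mul_apply, Fin.sum_univ_seven] at q0_6_2
  have q0_6_3 := E (Sum.inl (⟨0, by decide⟩ : Fin chevG2.rank)) 6 3
  simp [bas, suppMat, bSupp, Matrix.mul_apply, Fin.sum_univ_seven] at q0_6_3
  have q0_6_4 := E (Sum.inl (⟨0, by decide⟩ : Fin chevG2.rank)) 6 4
  simp [bas, suppMat, bSupp, Matrix.mul_apply, Fin.sum_univ_seven] at q0_6_4
  have q1_0_1 := E (Sum.inl (⟨1, by decide⟩ : Fin chevG2.rank)) 0 1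
  simp [bas, suppMat, bSupp, Matrix.mul_apply, Fin.sum_univ_seven] at q1_0_1
  have q1_0_5 := E (Sum.inl (⟨1, by decide⟩ : Fin chevG2.rank)) 0 5
  simp [bas, suppMat, bSupp, Matrix.mul_apply, Fin.sum_univ_seven] at q1_0_5
  have q1_1_0 := E (Sum.inl (⟨1, by decide⟩ : Fin chevG2.rank)) 1 0
  simp [bas, suppMat, bSupp, Matrix.mul_apply, Fin.sum_univ_seven] at q1_1_0
  have q1_1_6 := E (Sum.inl (⟨1, by decide⟩ : Fin chevG2.rank)) 1 6
  simp [bas, suppMat, bSupp, Matrix.mul_apply, Fin.sum_univ_seven] at q1_1_6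
  have q1_2_3 := E (Sum.inl (⟨1, by decide⟩ : Fin chevG2.rank)) 2 3
  simp [bas, suppMat, bSupp, Matrix.mul_apply, Fin.sum_univ_seven] at q1_2_3
  have q1_3_2 := E (Sum.inl (⟨1, by decide⟩ : Fin chevG2.rank)) 3 2
  simp [bas, suppMat, bSupp, Matrix.mul_apply, Fin.sum_univ_seven] at q1_3_2
  have q1_3_4 := E (Sum.inl (⟨1, by decide⟩ : Fin chevG2.rank)) 3 4
  simp [bas, suppMat, bSupp, Matrix.mul_apply, Fin.sum_univ_seven] at q1_3_4
  have q1_4_3 := E (Sum.inl (⟨1, by decide⟩ : Fin chevG2.rank)) 4 3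
  simp [bas, suppMat, bSupp, Matrix.mul_apply, Fin.sum_univ_seven] at q1_4_3
  have q1_5_0 := E (Sum.inl (⟨1, by decide⟩ : Fin chevG2.rank)) 5 0
  simp [bas, suppMat, bSupp, Matrix.mul_apply, Fin.sum_univ_seven] at q1_5_0
  have q1_5_6 := E (Sum.inl (⟨1, by decide⟩ : Fin chevG2.rank)) 5 6
  simp [bas, suppMat, bSupp, Matrix.mul_apply, Fin.sum_univ_seven] at q1_5_6
  have q1_6_1 := E (Sum.inl (⟨1, by decide⟩ : Fin chevG2.rank)) 6 1
  simp [bas, suppMat, bSupp, Matrix.mul_apply, Fin.sum_univ_seven] at q1_6_1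
  have q1_6_5 := E (Sum.inl (⟨1, by decide⟩ : Fin chevG2.rank)) 6 5
  simp [bas, suppMat, bSupp, Matrix.mul_apply, Fin.sum_univ_seven] at q1_6_5
  have q2_0_1 := E (Sum.inr (⟨0, by decide⟩ : Fin chevG2.nroots)) 0 1
  simp [bas, suppMat, bSupp, Matrix.mul_apply, Fin.sum_univ_seven] at q2_0_1
  have q2_1_0 := E (Sum.inr (⟨0, by decide⟩ : Fin chevG2.nroots)) 1 0
  simp [bas, suppMat, bSupp, Matrix.mul_apply, Fin.sum_univ_seven] at q2_1_0
  have q2_5_0 := E (Sum.inr (⟨0, by decide⟩ : Fin chevG2.nroots)) 5 0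
  simp [bas, suppMat, bSupp, Matrix.mul_apply, Fin.sum_univ_seven] at q2_5_0
  have q2_6_1 := E (Sum.inr (⟨0, by decide⟩ : Fin chevG2.nroots)) 6 1
  simp [bas, suppMat, bSupp, Matrix.mul_apply, Fin.sum_univ_seven] at q2_6_1
  have q3_2_0 := E (Sum.inr (⟨1, by decide⟩ : Fin chevG2.nroots)) 2 0
  simp [bas, suppMat, bSupp, Matrix.mul_apply, Fin.sum_univ_seven] at q3_2_0
  have q3_4_0 := E (Sum.inr (⟨1, by decide⟩ : Fin chevG2.nroots)) 4 0
  simp [bas, suppMat, bSupp, Matrix.mul_apply, Fin.sum_univ_seven] at q3_4_0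
  have q3_6_2 := E (Sum.inr (⟨1, by decide⟩ : Fin chevG2.nroots)) 6 2
  simp [bas, suppMat, bSupp, Matrix.mul_apply, Fin.sum_univ_seven] at q3_6_2
  have q4_3_0 := E (Sum.inr (⟨2, by decide⟩ : Fin chevG2.nroots)) 3 0
  simp [bas, suppMat, bSupp, Matrix.mul_apply, Fin.sum_univ_seven] at q4_3_0
  have q4_4_1 := E (Sum.inr (⟨2, by decide⟩ : Fin chevG2.nroots)) 4 1
  simp [bas, suppMat, bSupp, Matrix.mul_apply, Fin.sum_univ_seven] at q4_4_1
  have q5_4_0 := E (Sum.inr (⟨3, by decide⟩ : Fin chevG2.nroots)) 4 0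
  simp [bas, suppMat, bSupp, Matrix.mul_apply, Fin.sum_univ_seven] at q5_4_0
  have q6_5_0 := E (Sum.inr (⟨4, by decide⟩ : Fin chevG2.nroots)) 5 0
  simp [bas, suppMat, bSupp, Matrix.mul_apply, Fin.sum_univ_seven] at q6_5_0
  have q9_5_0 := E (Sum.inr (⟨7, by decide⟩ : Fin chevG2.nroots)) 5 0
  simp [bas, suppMat, bSupp, Matrix.mul_apply, Fin.sum_univ_seven] at q9_5_0
  have m01 : M 0 1 = 0 := by linear_combination q1_0_1
  have m02 : M 0 2 = 0 := by linear_combination q0_0_2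
  have m03 : M 0 3 = 0 := by linear_combination q0_0_3
  have m04 : M 0 4 = 0 := by linear_combination q0_0_4
  have m05 : M 0 5 = 0 := by linear_combination q1_0_5
  have m06 : M 0 6 = 0 := by linear_combination q2_0_1
  have m10 : M 1 0 = 0 := by linear_combination q1_1_0
  have m11 : M 1 1 = M 0 0 := by linear_combination q3_4_0 + q4_4_1 + ((-1) * M 0 0 + (-1) * M 4 4) * two
  have m12 : M 1 2 = 0 := by linear_combination q0_1_2
  have m13 : M 1 3 = 0 := by linear_combination q0_1_3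
  have m14 : M 1 4 = 0 := by linear_combination q0_1_4
  have m15 : M 1 5 = 0 := by linear_combination q2_1_0
  have m16 : M 1 6 = 0 := by linear_combination q1_1_6
  have m20 : M 2 0 = 0 := by linear_combination q0_2_0
  have m21 : M 2 1 = 0 := by linear_combination q0_2_1
  have m22 : M 2 2 = M 0 0 := by linear_combination q2_6_1 + q3_4_0 + q3_6_2 + q4_4_1 + ((-1) * M 0 0 + (-1) * M 1 1 + (-1) * M 4 4 + (-1) * M 6 6) * two
  have m23 : M 2 3 = 0 := by linear_combination q1_2_3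
  have m24 : M 2 4 = 0 := by linear_combination q3_2_0
  have m25 : M 2 5 = 0 := by linear_combination q0_2_5
  have m26 : M 2 6 = 0 := by linear_combination q0_2_6
  have m30 : M 3 0 = 0 := by linear_combination q0_3_0
  have m31 : M 3 1 = 0 := by linear_combination q0_3_1
  have m32 : M 3 2 = 0 := by linear_combination q1_3_2
  have m33 : M 3 3 = M 0 0 := by linear_combination q4_3_0 + ((-1) * M 0 0) * two
  have m34 : M 3 4 = 0 := by linear_combination q1_3_4
  have m35 : M 3 5 = 0 := by linear_combination q0_3_5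
  have m36 : M 3 6 = 0 := by linear_combination q0_3_6
  have m40 : M 4 0 = 0 := by linear_combination q0_4_0
  have m41 : M 4 1 = 0 := by linear_combination q0_4_1
  have m42 : M 4 2 = 0 := by linear_combination q5_4_0
  have m43 : M 4 3 = 0 := by linear_combination q1_4_3
  have m44 : M 4 4 = M 0 0 := by linear_combination q3_4_0 + ((-1) * M 0 0) * two
  have m45 : M 4 5 = 0 := by linear_combination q0_4_5
  have m46 : M 4 6 = 0 := by linear_combination q0_4_6
  have m50 : M 5 0 = 0 := by linear_combination q1_5_0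
  have m51 : M 5 1 = 0 := by linear_combination q6_5_0
  have m52 : M 5 2 = 0 := by linear_combination q0_5_2
  have m53 : M 5 3 = 0 := by linear_combination q0_5_3
  have m54 : M 5 4 = 0 := by linear_combination q0_5_4
  have m55 : M 5 5 = M 0 0 := by linear_combination q2_5_0 + ((-1) * M 0 0) * two
  have m56 : M 5 6 = 0 := by linear_combination q1_5_6
  have m60 : M 6 0 = 0 := by linear_combination q9_5_0
  have m61 : M 6 1 = 0 := by linear_combination q1_6_1
  have m62 : M 6 2 = 0 := by linear_combination q0_6_2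
  have m63 : M 6 3 = 0 := by linear_combination q0_6_3
  have m64 : M 6 4 = 0 := by linear_combination q0_6_4
  have m65 : M 6 5 = 0 := by linear_combination q1_6_5
  have m66 : M 6 6 = M 0 0 := by linear_combination q2_6_1 + q3_4_0 + q4_4_1 + ((-1) * M 0 0 + (-1) * M 1 1 + (-1) * M 4 4) * two
  ext i j
  fin_cases i <;> fin_cases j <;> simp [m01, m02, m03, m04, m05, m06, m10, m11, m12, m13, m14, m15, m16, m20, m21, m22, m23, m24, m25, m26, m30, m31, m32, m33, m34, m35, m36, m40, m41, m42, m43, m44, m45, m46, m50, m51, m52, m53, m54, m55, m56, m60, m61, m62, m63, m64, m65, m66]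

end Cfsg.Agent.G2Four
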