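import Mathlib

/-!
The field with four elements by packed tables, fast in the kernel.
-/

set_option autoImplicit false

namespace Cfsg.Agent.G2Four

/-- Packed multiplication table. -/
def mulTab : ℕ := 2625168384
def mulN (a b : ℕ) : ℕ := (mulTab >>> (2 * (4 * a + b))) % 4

/-- The field with four elements. -/
structure K4 where
  /-- The code of an element. -/
  v : Fin 4
deriving DecidableEq

/-- `K4` as `Fin 4`. -/
def equivFin : K4 ≃ Fin 4 := ⟨K4.v, K4.mk, fun _ => rfl, fun _ => rfl⟩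

instance fintypeK4 : Fintype K4 := Fintype.ofEquiv _ equivFin.symm
instance addK4 : Add K4 := ⟨fun a b => ⟨Fin.ofNat 4 ((a.v : ℕ) ^^^ b.v)⟩⟩
instance mulK4 : Mul K4 := ⟨fun a b => ⟨Fin.ofNat 4 (mulN a.v b.v)⟩⟩
instance negK4 : Neg K4 := ⟨id⟩
instance zeroK4 : Zero K4 := ⟨⟨0⟩⟩
instance oneK4 : One K4 := ⟨⟨1⟩⟩
instance invK4 : Inv K4 := ⟨fun a => a * a⟩

theorem k4_assoc : ∀ a b c : K4, a + b + c = a + (b + c) ∧ a * b * c = a * (b * c) ∧
    a * (b + c) = a * b + a * c := by decide +kernel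

theorem k4_comm : ∀ a b : K4, a * b = b * a ∧ a + b = b + a := by decide +kernel

theorem k4_unit : ∀ a : K4, 0 + a = a ∧ -a + a = 0 ∧ 1 * a = a ∧ (a ≠ 0 → a * a⁻¹ = 1) := by
  decide +kernel

instance fieldK4 : Field K4 :=
  Field.ofMinimalAxioms K4
    (fun a b c => (k4_assoc a b c).1)
    (fun a => (k4_unit a).1)
    (fun a => (k4_unit a).2.1)
    (fun a b c => (k4_assoc a b c).2.1)
    (fun a b => (k4_comm a b).1)
    (fun a => (k4_unit a).2.2.1)
    (fun a ha => (k4_unit a).2.2.2 ha)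
    (by decide)
    (fun a b c => (k4_assoc a b c).2.2)
    ⟨0, 1, by decide⟩

theorem card_K4 : Fintype.card K4 = 4 := by
  rw [Fintype.card_congr equivFin, Fintype.card_fin]

theorem two_eq_zero : (2 : K4) = 0 := by
  rw [← one_add_one_eq_two]
  decide +kernel

/-- The element with code `a`. -/
def k (a : Fin 4) : K4 := ⟨a⟩

end Cfsg.Agent.G2Four
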