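import Cfsg.Agent.Lib.G2Four.CheckRel
import Cfsg.Agent.Lib.G2Four.Commutant
import Cfsg.Agent.Lib.G2Four.Data
import Cfsg.Agent.Lib.Chev.CheckG2
import Cfsg.Agent.Lib.Chev.Elements

/-!
`chevG2.group K4` acting on `K4⁶`, and `chevG2.group F ≅ chevG2.group K4` for `|F| = 4`.
-/

set_option autoImplicit false

namespace Cfsg.Agent.G2Four

open Cfsg.Lie Matrix

theorem check_all (r : Fin chevG2.nroots) (t : K4) :
    Rel (x7 r t) (chevG2.xMat K4 r t) ∧ x7 r t * x7 r (-t) = 1 ∧ x7 r (-t) * x7 r t = 1 ∧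
      ∀ i, x7 r t i 3 = if i = 3 then 1 else 0 := by
  obtain ⟨r, hr⟩ := r
  have hr' : r < 12 := hr
  interval_cases r
  · exact check0 t
  · exact check1 t
  · exact check2 t
  · exact check3 t
  · exact check4 t
  · exact check5 t
  · exact check6 t
  · exact check7 t
  · exact check8 t
  · exact check9 t
  · exact check10 t
  · exact check11 t

/-- The 7-dimensional root element as a unit. -/
def u7 (r : Fin chevG2.nroots) (t : K4) : GL (Fin 7) K4 :=
  ⟨x7 r t, x7 r (-t), (check_all r t).2.1, (check_all r t).2.2.1⟩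

/-- Compatible pairs of a 7- and a 14-dimensional matrix. -/
def gens : Set (GL (Fin 7) K4 × GL chevG2.Idx K4) :=
  {p | ∃ (r : Fin chevG2.nroots) (t : K4),
    (p.1 : Matrix (Fin 7) (Fin 7) K4) = x7 r t ∧
      (p.2 : Matrix chevG2.Idx chevG2.Idx K4) = chevG2.xMat K4 r t}

/-- The group of compatible pairs. -/
def Q : Subgroup (GL (Fin 7) K4 × GL chevG2.Idx K4) := Subgroup.closure gens

/-- The invariant of the pairs. -/
def Good7 (p : GL (Fin 7) K4 × GL chevG2.Idx K4) : Prop :=
  Rel (p.1 : Matrix (Fin 7) (Fin 7) K4) (p.2 : Matrix chevG2.Idx chevG2.Idx K4) ∧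
    ∀ i, (p.1 : Matrix (Fin 7) (Fin 7) K4) i 3 = if i = 3 then 1 else 0

theorem good_of_mem {p : GL (Fin 7) K4 × GL chevG2.Idx K4} (hp : p ∈ Q) : Good7 p := by
  have : Finite (GL (Fin 7) K4) := Finite.of_injective _ Units.val_injective
  have : Finite (GL chevG2.Idx K4) := Finite.of_injective _ Units.val_injective
  have h1 : Good7 1 := ⟨by simpa using rel_one, fun i => by simp [Matrix.one_apply]⟩
  have hm : ∀ a b, Good7 a → Good7 b → Good7 (a * b) := fun a b ha hb => by
    refine ⟨by simpa using rel_mul ha.1 hb.1, fun i => ?_⟩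
    simp only [Prod.fst_mul, Units.val_mul, Matrix.mul_apply]
    rw [Finset.sum_eq_single 3]
    · rw [hb.2 3, if_pos rfl, mul_one, ha.2 i]
    · intro k _ hk; rw [hb.2 k, if_neg hk, mul_zero]
    · simp
  induction hp using Subgroup.closure_induction with
  | mem x hx =>
    obtain ⟨r, t, e1, e2⟩ := hx
    unfold Good7
    rw [e1, e2]
    exact ⟨(check_all r t).1, (check_all r t).2.2.2⟩
  | one => exact h1
  | mul x y _ _ hx hy => exact hm x y hx hy
  | inv x _ hx =>
    have hpow : ∀ n : ℕ, Good7 (x ^ n) := fun n => by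
      induction n with
      | zero => simpa using h1
      | succ n ih => rw [pow_succ]; exact hm _ _ ih hx
    obtain ⟨n, hn⟩ : ∃ n : ℕ, x⁻¹ = x ^ n := ⟨orderOf x - 1, by
      rw [inv_eq_iff_mul_eq_one, ← pow_succ', Nat.sub_add_cancel (orderOf_pos x), pow_orderOf_eq_one]⟩
    rw [hn]
    exact hpow n

/-- The projection to the adjoint group. -/
def proj : Q →* GL chevG2.Idx K4 := (MonoidHom.snd _ _).comp Q.subtype

theorem proj_injective : Function.Injective proj := by
  rw [injective_iff_map_eq_one]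
  rintro ⟨⟨g, A⟩, hp⟩ hA
  obtain ⟨hR, h3⟩ := good_of_mem hp
  change A = 1 at hA
  subst hA
  have hc : ∀ j, (g : Matrix (Fin 7) (Fin 7) K4) * bas j = bas j * g := fun j => by
    have := hR j
    simpa [Units.val_one, Matrix.one_apply] using this
  have hs := scalar_of_comm _ hc
  have h33 := congrFun (congrFun hs 3) 3
  rw [h3 3, if_pos rfl, Matrix.smul_apply, one_apply_eq, smul_eq_mul, mul_one] at h33
  refine Subtype.ext (Prod.ext (Units.ext ?_) rfl)
  rw [hs, ← h33, one_smul]
  rfl

theorem proj_range : proj.range = chevG2.group K4 := by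
  rw [proj, MonoidHom.range_comp, Subgroup.range_subtype, Q, MonoidHom.map_closure,
    ChevalleyDatum.group]
  congr 1
  ext A
  constructor
  · rintro ⟨p, ⟨r, t, -, e⟩, rfl⟩
    exact ⟨r, t, e⟩
  · rintro ⟨r, t, e⟩
    exact ⟨(u7 r t, A), ⟨r, t, rfl, e⟩, rfl⟩

/-- `Q` is the adjoint Chevalley group. -/
noncomputable def qEquiv : Q ≃* chevG2.group K4 :=
  (MonoidHom.ofInjective proj_injective).trans (MulEquiv.subgroupCongr proj_range)

/-- The coordinates different from the fixed one. -/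
def skip (i : Fin 6) : Fin 7 := Fin.succAbove 3 i

/-- The induced 6-dimensional matrix. -/
def six (g : Matrix (Fin 7) (Fin 7) K4) : Matrix (Fin 6) (Fin 6) K4 :=
  Matrix.of fun i j => g (skip i) (skip j)

theorem six_one : six 1 = 1 := by
  ext i j
  simp [six, skip, Matrix.one_apply]

theorem six_mul {g : Matrix (Fin 7) (Fin 7) K4} (hg : ∀ i, g i 3 = if i = 3 then 1 else 0)
    (h : Matrix (Fin 7) (Fin 7) K4) : six (g * h) = six g * six h := by
  ext i j
  simp only [six, Matrix.of_apply, Matrix.mul_apply, skip]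
  rw [Fin.sum_univ_succAbove _ 3, hg, if_neg (Fin.succAbove_ne 3 i), zero_mul, zero_add]

/-- The 6-dimensional representation of `Q`. -/
def rho : Q →* Matrix (Fin 6) (Fin 6) K4 where
  toFun p := six ((p : GL (Fin 7) K4 × GL chevG2.Idx K4).1 : Matrix (Fin 7) (Fin 7) K4)
  map_one' := six_one
  map_mul' p q := six_mul (good_of_mem p.2).2 _

/-- The natural module. -/
abbrev V6 := Fin 6 → K4

instance actQ : DistribMulAction Q V6 where
  smul p v := rho p *ᵥ v
  one_smul v := by show rho 1 *ᵥ v = v; rw [map_one, one_mulVec]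
  mul_smul p q v := by show rho (p * q) *ᵥ v = rho p *ᵥ (rho q *ᵥ v); rw [map_mul, mulVec_mulVec]
  smul_zero p := mulVec_zero _
  smul_add p v w := mulVec_add _ v w

/-- Vector with the given code. -/
def vecC (c : ℕ) : V6 := fun i => ⟨Fin.ofNat 4 (c / 4 ^ (i : ℕ))⟩

/-- Code of a vector. -/
def code (v : V6) : ℕ :=
  (v 0).v + 4 * ((v 1).v + 4 * ((v 2).v + 4 * ((v 3).v + 4 * ((v 4).v + 4 * (v 5).v))))

theorem vecC_code (v : V6) : vecC (code v) = v ∧ code v < 4096 ∧ (code v = 0 → v = 0) := by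
  have hb : ∀ i, ((v i).v : ℕ) < 4 := fun i => (v i).v.2
  have h0 := hb 0; have h1 := hb 1; have h2 := hb 2; have h3 := hb 3; have h4 := hb 4; have h5 := hb 5
  refine ⟨?_, by simp only [code]; omega, fun h => ?_⟩
  · funext i
    refine congrArg K4.mk (Fin.ext ?_)
    fin_cases i <;> simp [code, Fin.val_ofNat] <;> omega
  · funext i
    simp only [code] at h
    refine congrArg K4.mk (Fin.ext ?_)
    show ((v i).v : ℕ) = 0
    fin_cases i <;> simp <;> omega

/-- Root of generator number `g`. -/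
def genR (g : ℕ) : Fin chevG2.nroots := ⟨genRoot.getD g 0 % 12, Nat.mod_lt _ (by norm_num)⟩

/-- Parameter of generator number `g`. -/
def genT (g : ℕ) : K4 := ⟨Fin.ofNat 4 (genPar.getD g 0)⟩

/-- The generator number `g`. -/
noncomputable def genE (g : ℕ) : Q :=
  ⟨(u7 (genR g) (genT g), Cfsg.Agent.Chev.xg chevG2 K4 (genR g) (genT g)),
    Subgroup.subset_closure ⟨genR g, genT g, rfl, by
      rw [Cfsg.Agent.Chev.G2.good.coe_xg, ChevalleyDatum.x, dif_pos (genR g).isLt]⟩⟩

theorem rho_genE (g : ℕ) : rho (genE g) = six (x7 (genR g) (genT g)) := rfl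

end Cfsg.Agent.G2Four
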