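import Cfsg.Agent.Lib.G2Four.Group

/-!
`G₂(4)` is transitive on the nonzero vectors of its 6-dimensional module, and has elements of
orders 6 and 10.
-/

set_option autoImplicit false

namespace Cfsg.Agent.G2Four

open Cfsg.Lie Matrix

noncomputable def seqN (i : ℕ) : ℕ := (seqTab >>> (12 * i)) % 4096
noncomputable def parN (i : ℕ) : ℕ := (parTab >>> (17 * i)) % 131072
noncomputable def posN (v : ℕ) : ℕ := (posTab >>> (12 * v)) % 4096

/-- The matrix of generator number `g`. -/
def genM (g : ℕ) : Matrix (Fin 6) (Fin 6) K4 := six (x7 (genR g) (genT g))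

theorem steps_chunk : ∀ a : Fin 63, ∀ b : Fin 65, 65 * (a : ℕ) + b = 0 ∨
    (parN (65 * (a : ℕ) + b) / 16 < 65 * (a : ℕ) + b ∧
      genM (parN (65 * (a : ℕ) + b) % 16) *ᵥ vecC (seqN (parN (65 * (a : ℕ) + b) / 16)) =
        vecC (seqN (65 * (a : ℕ) + b))) := by
  decide +kernel

theorem complete_chunk : ∀ a : Fin 64, ∀ b : Fin 64, 64 * (a : ℕ) + b = 0 ∨
    (posN (64 * (a : ℕ) + b) < 4095 ∧ seqN (posN (64 * (a : ℕ) + b)) = 64 * (a : ℕ) + b) := by
  decide +kernel

theorem steps_ok (i : Fin 4095) :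
    (i : ℕ) = 0 ∨ (parN i / 16 < i ∧
      genM (parN i % 16) *ᵥ vecC (seqN (parN i / 16)) = vecC (seqN i)) := by
  have hi := i.2
  have h := steps_chunk ⟨(i : ℕ) / 65, by omega⟩ ⟨(i : ℕ) % 65, by omega⟩
  simpa only [Nat.div_add_mod] using h

theorem complete_ok (v : Fin 4096) : (v : ℕ) = 0 ∨ (posN v < 4095 ∧ seqN (posN v) = v) := by
  have hv := v.2
  have h := complete_chunk ⟨(v : ℕ) / 64, by omega⟩ ⟨(v : ℕ) % 64, by omega⟩
  simpa only [Nat.div_add_mod] using h

theorem seq_mem_orbit : ∀ i < 4095, ∃ q : Q, q • vecC (seqN 0) = vecC (seqN i) := by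
  intro i
  induction i using Nat.strong_induction_on with
  | _ i ih =>
    intro hi
    rcases steps_ok ⟨i, hi⟩ with h | ⟨h1, h2⟩
    · have h' : i = 0 := h
      subst h'
      exact ⟨1, one_smul _ _⟩
    · obtain ⟨q, hq⟩ := ih _ h1 (lt_trans h1 hi)
      refine ⟨genE (parN i % 16) * q, ?_⟩
      rw [mul_smul, hq]
      exact h2

theorem exists_smul_eq_of_ne {v : V6} (hv : v ≠ 0) : ∃ q : Q, q • vecC (seqN 0) = v := by
  obtain ⟨h1, h2, h3⟩ := vecC_code v
  rcases complete_ok ⟨code v, h2⟩ with h | ⟨ha, hb⟩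
  · exact absurd (h3 h) hv
  · obtain ⟨q, hq⟩ := seq_mem_orbit _ ha
    exact ⟨q, by rw [hq, hb, h1]⟩

theorem smul_eq_zero_iff' (q : Q) (v : V6) : q • v = 0 ↔ v = 0 :=
  ⟨fun h => by simpa using congrArg (q⁻¹ • ·) h, fun h => by rw [h, smul_zero]⟩

theorem orbit_eq {v : V6} (hv : v ≠ 0) : MulAction.orbit Q v = {w | w ≠ 0} := by
  ext w
  constructor
  · rintro ⟨q, rfl⟩
    exact fun h => hv ((smul_eq_zero_iff' q v).1 h)
  · intro hw
    obtain ⟨a, ha⟩ := exists_smul_eq_of_ne hv
    obtain ⟨b, hb⟩ := exists_smul_eq_of_ne (hw : w ≠ 0)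
    exact ⟨b * a⁻¹, by
      show (b * a⁻¹) • v = w
      rw [mul_smul, ← ha, inv_smul_smul, hb]⟩

theorem card_stabilizer_mul {v : V6} (hv : v ≠ 0) :
    Nat.card (MulAction.stabilizer Q v) * 4095 = Nat.card Q := by
  have h : Nat.card (MulAction.orbit Q v) = 4095 := by
    rw [orbit_eq hv, Nat.card_coe_set_eq]
    have : ({w : V6 | w ≠ 0} : Set V6) = {0}ᶜ := by ext; simp
    rw [this, Set.ncard_compl, Set.ncard_singleton, Nat.card_fun, Nat.card_eq_fintype_card,
      Nat.card_eq_fintype_card, card_K4, Fintype.card_fin]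
    norm_num
  rw [← h]
  rw [← Subgroup.card_mul_index (MulAction.stabilizer Q v), MulAction.index_stabilizer,
    Nat.card_coe_set_eq]

/-- Product of generators in the 7-dimensional matrices. -/
def word7 : List ℕ → Matrix (Fin 7) (Fin 7) K4
  | [] => 1
  | g :: w => x7 (genR g) (genT g) * word7 w

/-- Product of generators in `Q`. -/
noncomputable def wordQ : List ℕ → Q
  | [] => 1
  | g :: w => genE g * wordQ w

/-- The 7-dimensional component. -/
def fst7 : Q →* Matrix (Fin 7) (Fin 7) K4 :=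
  (Units.coeHom _).comp ((MonoidHom.fst _ _).comp Q.subtype)

theorem fst7_word : ∀ w, fst7 (wordQ w) = word7 w
  | [] => map_one _
  | g :: w => by rw [wordQ, map_mul, fst7_word w]; rfl

theorem orderOf_word (w : List ℕ) (n : ℕ) (hn : 0 < n) (h : word7 w ^ n = 1)
    (h' : ∀ p ∈ n.primeFactors, word7 w ^ (n / p) ≠ 1) :
    n ∣ orderOf (wordQ w) := by
  have hd : orderOf (word7 w) = n := orderOf_eq_of_pow_and_pow_div_prime hn h
    (fun p hp hpn => h' p (Nat.mem_primeFactors.2 ⟨hp, hpn, hn.ne'⟩))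
  rw [← hd, ← fst7_word]
  exact orderOf_map_dvd _ _

theorem exists_orderOf_of_word (w : List ℕ) (n : ℕ) (h : n ∣ orderOf (wordQ w)) :
    ∃ q : Q, orderOf q = n := by
  have : Finite (GL (Fin 7) K4) := Finite.of_injective _ Units.val_injective
  have : Finite (GL chevG2.Idx K4) := Finite.of_injective _ Units.val_injective
  obtain ⟨c, hc⟩ := h
  have hcp : 0 < c := Nat.pos_of_mul_pos_left (hc ▸ orderOf_pos (wordQ w))
  exact ⟨wordQ w ^ c, by
    rw [orderOf_pow' _ hcp.ne', hc, Nat.gcd_mul_left_left, Nat.mul_div_cancel _ hcp]⟩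

theorem exists_orderOf_six : ∃ q : Q, orderOf q = 6 :=
  exists_orderOf_of_word word6 6 (orderOf_word word6 6 (by norm_num) (by decide +kernel)
    (by
      rw [show (6 : ℕ).primeFactors = {2, 3} by
        rw [show (6 : ℕ) = 2 * 3 from rfl, Nat.primeFactors_mul (by norm_num) (by norm_num),
          Nat.Prime.primeFactors Nat.prime_two, Nat.Prime.primeFactors Nat.prime_three]; rfl]
      intro p hp
      simp only [Finset.mem_insert, Finset.mem_singleton] at hp
      rcases hp with rfl | rfl <;> decide +kernel)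
)

theorem exists_orderOf_ten : ∃ q : Q, orderOf q = 10 :=
  exists_orderOf_of_word word10 10 (orderOf_word word10 10 (by norm_num) (by decide +kernel)
    (by
      rw [show (10 : ℕ).primeFactors = {2, 5} by
        rw [show (10 : ℕ) = 2 * 5 from rfl, Nat.primeFactors_mul (by norm_num) (by norm_num),
          Nat.Prime.primeFactors Nat.prime_two, Nat.Prime.primeFactors Nat.prime_five]; rfl]
      intro p hp
      simp only [Finset.mem_insert, Finset.mem_singleton] at hp
      rcases hp with rfl | rfl <;> decide +kernel)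
)

end Cfsg.Agent.G2Four
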