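import Cfsg.Prelude.Def_ChevG2
import Cfsg.Agent.Lib.G2Four.Field

/-!
The 7-dimensional root elements of `G₂` in characteristic 2 and their relation to the adjoint ones.
-/

set_option autoImplicit false

namespace Cfsg.Agent.G2Four

open Cfsg.Lie Matrix

/-- Support of the linear part of a root element. -/
def eSupp : ℕ → List (ℕ × ℕ)
  | 0 => [(5, 0), (6, 1)]
  | 1 => [(4, 0), (6, 2)]
  | 2 => [(3, 0), (4, 1), (5, 2)]
  | 3 => [(2, 0), (3, 1), (6, 4)]
  | 4 => [(1, 0), (3, 2), (6, 5)]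
  | 5 => [(2, 1), (5, 4)]
  | 6 => [(1, 2), (4, 5)]
  | 7 => [(0, 1), (3, 4), (5, 6)]
  | 8 => [(0, 2), (3, 5), (4, 6)]
  | 9 => [(1, 4), (2, 5), (3, 6)]
  | 10 => [(0, 4), (2, 6)]
  | 11 => [(0, 5), (1, 6)]
  | _ => []

/-- Support of the quadratic part of a root element. -/
def fSupp : ℕ → List (ℕ × ℕ)
  | 0 => []
  | 1 => []
  | 2 => [(6, 0)]
  | 3 => [(5, 1)]
  | 4 => [(4, 2)]
  | 5 => []
  | 6 => []
  | 7 => [(2, 4)]
  | 8 => [(1, 5)]
  | 9 => [(0, 6)]
  | 10 => []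
  | 11 => []
  | _ => []

/-- Supports of the Lie algebra basis: two coroots, then the root vectors. -/
def bSupp : ℕ → List (ℕ × ℕ)
  | 0 => [(0, 0), (1, 1), (5, 5), (6, 6)]
  | 1 => [(1, 1), (2, 2), (4, 4), (5, 5)]
  | 2 => [(5, 0), (6, 1)]
  | 3 => [(4, 0), (6, 2)]
  | 4 => [(3, 0), (4, 1), (5, 2)]
  | 5 => [(2, 0), (3, 1), (6, 4)]
  | 6 => [(1, 0), (3, 2), (6, 5)]
  | 7 => [(2, 1), (5, 4)]
  | 8 => [(1, 2), (4, 5)]
  | 9 => [(0, 1), (3, 4), (5, 6)]
  | 10 => [(0, 2), (3, 5), (4, 6)]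
  | 11 => [(1, 4), (2, 5), (3, 6)]
  | 12 => [(0, 4), (2, 6)]
  | 13 => [(0, 5), (1, 6)]
  | _ => []

/-- The 0/1 matrix with the given support. -/
def suppMat (L : List (ℕ × ℕ)) : Matrix (Fin 7) (Fin 7) K4 :=
  Matrix.of fun i j => if L.contains ((i : ℕ), (j : ℕ)) then 1 else 0

/-- The 7-dimensional root element. -/
def x7 (r : ℕ) (t : K4) : Matrix (Fin 7) (Fin 7) K4 :=
  Matrix.of fun i j => (if i = j then 1 else 0) + (if (eSupp r).contains ((i : ℕ), (j : ℕ)) then t else 0)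
    + (if (fSupp r).contains ((i : ℕ), (j : ℕ)) then t * t else 0)

/-- The basis element of the Lie algebra attached to a coordinate. -/
def bas : chevG2.Idx → Matrix (Fin 7) (Fin 7) K4
  | Sum.inl i => suppMat (bSupp i)
  | Sum.inr r => suppMat (bSupp (2 + r))

/-- `g` induces `A` on the Lie algebra by conjugation. -/
def Rel (g : Matrix (Fin 7) (Fin 7) K4) (A : Matrix chevG2.Idx chevG2.Idx K4) : Prop :=
  ∀ j, g * bas j = (∑ i, A i j • bas i) * g

theorem rel_one : Rel 1 1 := fun j => by simp [Matrix.one_apply]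

theorem rel_mul {g h : Matrix (Fin 7) (Fin 7) K4} {A B : Matrix chevG2.Idx chevG2.Idx K4}
    (hg : Rel g A) (hh : Rel h B) : Rel (g * h) (A * B) := by
  intro j
  rw [Matrix.mul_assoc, hh j, ← Matrix.mul_assoc, Finset.mul_sum]
  simp only [Matrix.mul_smul]
  rw [Finset.sum_congr rfl fun i _ => by rw [hg i]]
  rw [← Matrix.mul_assoc]
  congr 1
  simp only [← Matrix.smul_mul, ← Finset.sum_mul]
  congr 1
  simp only [Finset.smul_sum, smul_smul, Matrix.mul_apply, Finset.sum_smul]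
  rw [Finset.sum_comm]
  refine Finset.sum_congr rfl fun i _ => Finset.sum_congr rfl fun l _ => ?_
  rw [mul_comm]

end Cfsg.Agent.G2Four
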